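import Groth.Agent.Lib.Hensel.Branches

/-!
# Minimal primes of `A' ⊗ S` for a henselization `S`
-/

set_option autoImplicit false
set_option linter.style.haveILetI false
universe u

open scoped TensorProduct

namespace GrothLib.MinPrimesHens1

open GrothLib.Hensel

section General

variable {A : Type u} [CommRing A] {K : Type u} [CommRing K] [Algebra A K] {R' : Type u}
  [CommRing R'] [Algebra A R'] {S : Type u} [CommRing S] [Algebra A S]
  [Module.Flat A S] (hS : EtaleStages A S) (hK : AbsFlat K)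
  (hker : ∀ a : A, algebraMap A K a = 0 → IsNilpotent a)
  (hd : ∀ k : K, ∃ d a, IsUnit (algebraMap A K d) ∧ k * algebraMap A K d = algebraMap A K a)
  (iv : R' →ₐ[A] K) (hiv : Function.Injective iv) (hmem : ∀ k : K, IsIntegral A k → ∃ r, iv r = k)

local notation "jj" => (Algebra.TensorProduct.map (AlgHom.id A S) iv)

include hiv in
theorem exists_trace {r : Ideal (S ⊗[A] R')} (hr : r ∈ minimalPrimes (S ⊗[A] R')) :
    ∃ q : Ideal (S ⊗[A] K), q.IsPrime ∧ q.comap jj = r := by
  have hj : Function.Injective jj :=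
    Module.Flat.lTensor_preserves_injective_linearMap (M := S) iv.toLinearMap hiv
  obtain ⟨q, hq, -, hqr⟩ := Ideal.exists_comap_eq_of_mem_minimalPrimes
    (I := (⊥ : Ideal (S ⊗[A] K))) (jj).toRingHom r (by
      rwa [← RingHom.ker_eq_comap_bot, (RingHom.injective_iff_ker_eq_bot (jj).toRingHom).mp hj])
  exact ⟨q, hq, hqr⟩

include hS hK hiv hmem in
theorem trace_mem_minimalPrimes (q : Ideal (S ⊗[A] K)) [hq : q.IsPrime] :
    q.comap jj ∈ minimalPrimes (S ⊗[A] R') := by
  obtain ⟨r, hr, hrq⟩ := Ideal.exists_minimalPrimes_le (bot_le : ⊥ ≤ q.comap jj)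
  obtain ⟨q', hq', rfl⟩ := exists_trace iv hiv hr
  haveI : (q.comap jj).IsPrime := hq.comap _
  rwa [← comap_eq_of_le_common hS hK iv hiv hmem (q₁ := q') (q₂ := q) hrq le_rfl]

include hker in
theorem exists_of_minimalPrimes_base {p : Ideal S} (hp : p ∈ minimalPrimes S) :
    ∃ q : Ideal (S ⊗[A] K), q.IsPrime ∧ q.comap (algebraMap S (S ⊗[A] K)) = p := by
  have hpp : p.IsPrime := hp.1.1
  obtain ⟨q, hq, -, hqp⟩ := Ideal.exists_comap_eq_of_mem_minimalPrimes
    (I := (⊥ : Ideal (S ⊗[A] K))) (algebraMap S (S ⊗[A] K)) p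
    ⟨⟨hpp, ((RingHom.ker_eq_comap_bot _).ge.trans (ker_algebraMap_le_nilradical hker)).trans
      (nilradical_le_prime p)⟩, fun y hy hyp ↦ hp.2 ⟨hy.1, bot_le⟩ hyp⟩
  exact ⟨q, hq, hqp⟩

include hS hK hker hd in
theorem base_mem_minimalPrimes (q : Ideal (S ⊗[A] K)) [q.IsPrime] :
    q.comap (algebraMap S (S ⊗[A] K)) ∈ minimalPrimes S := by
  obtain ⟨p, hp, hpq⟩ := Ideal.exists_minimalPrimes_le
    (bot_le : ⊥ ≤ q.comap (algebraMap S (S ⊗[A] K)))
  obtain ⟨q₀, hq₀, rfl⟩ := exists_of_minimalPrimes_base hker hp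
  rwa [← (hS.absFlat_tensor hK).eq_of_le (le_of_comap_le hd hpq)]

theorem comap_comap_trace (q : Ideal (S ⊗[A] K)) :
    (q.comap jj).comap (algebraMap S (S ⊗[A] R')) = q.comap (algebraMap S (S ⊗[A] K)) := by
  ext s
  simp only [Ideal.mem_comap, Algebra.TensorProduct.algebraMap_apply, Algebra.algebraMap_self, RingHom.id_apply,
    Algebra.TensorProduct.map_tmul, AlgHom.id_apply, map_one]

include hS hK hker hd iv hiv hmem in
theorem bijOn_comap :
    Set.BijOn (fun P : Ideal (S ⊗[A] R') => P.comap (algebraMap S (S ⊗[A] R')))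
      (minimalPrimes (S ⊗[A] R')) (minimalPrimes S) := by
  refine ⟨fun P hP => ?_, fun P hP P' hP' h => ?_, fun p hp => ?_⟩
  · obtain ⟨q, hq, rfl⟩ := exists_trace iv hiv hP
    show (q.comap jj).comap _ ∈ _
    rw [comap_comap_trace]
    exact base_mem_minimalPrimes hS hK hker hd q
  · obtain ⟨q, hq, rfl⟩ := exists_trace iv hiv hP
    obtain ⟨q', hq', rfl⟩ := exists_trace iv hiv hP'
    change (q.comap jj).comap _ = (q'.comap jj).comap _ at h
    rw [comap_comap_trace, comap_comap_trace] at h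
    rw [le_antisymm (le_of_comap_le hd h.le) (le_of_comap_le hd h.ge)]
  · obtain ⟨q, hq, rfl⟩ := exists_of_minimalPrimes_base hker hp
    exact ⟨q.comap jj, trace_mem_minimalPrimes hS hK iv hiv hmem q, comap_comap_trace iv q⟩

include hS hK iv hiv hmem in
theorem existsUnique_minimalPrime_le (m : Ideal (S ⊗[A] R')) [m.IsPrime] :
    ∃! r, r ∈ minimalPrimes (S ⊗[A] R') ∧ r ≤ m := by
  obtain ⟨r, hr, hrm⟩ := Ideal.exists_minimalPrimes_le (bot_le : ⊥ ≤ m)
  refine ⟨r, ⟨hr, hrm⟩, fun r' ⟨hr', hrm'⟩ => ?_⟩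
  obtain ⟨q, hq, rfl⟩ := exists_trace iv hiv hr
  obtain ⟨q', hq', rfl⟩ := exists_trace iv hiv hr'
  exact comap_eq_of_le_common hS hK iv hiv hmem hrm' hrm

end General

theorem existsUnique_maximal_le {A R' S : Type u} [CommRing A] [CommRing R'] [Algebra A R']
    [Algebra.IsIntegral A R'] [CommRing S] [HenselianLocalRing S] [Algebra A S]
    (r : Ideal (S ⊗[A] R')) [r.IsPrime] : ∃! m : Ideal (S ⊗[A] R'), m.IsMaximal ∧ r ≤ m := by
  obtain ⟨m, hm, hrm⟩ := Ideal.exists_le_maximal r (Ideal.IsPrime.ne_top inferInstance)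
  refine ⟨m, ⟨hm, hrm⟩, fun m' ⟨hm', hrm'⟩ => ?_⟩
  have h1 : ∀ Q : Ideal (S ⊗[A] R'), Q.IsMaximal → r ≤ Q →
      (Q.map (Ideal.Quotient.mk r)).IsMaximal ∧ (Q.map (Ideal.Quotient.mk r)).comap (Ideal.Quotient.mk r) = Q :=
    fun Q hQ hle => by
    have h2 : (Q.map (Ideal.Quotient.mk r)).comap (Ideal.Quotient.mk r) = Q := by
      rw [Ideal.comap_map_of_surjective' _ Ideal.Quotient.mk_surjective, Ideal.mk_ker, sup_eq_left.mpr hle]
    refine ⟨(Ideal.map_eq_top_or_isMaximal_of_surjective _ Ideal.Quotient.mk_surjective hQ).resolve_left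
      fun h => hQ.ne_top ?_, h2⟩
    rw [← h2, h, Ideal.comap_top]
  haveI := (h1 m hm hrm).1
  haveI := (h1 m' hm' hrm').1
  rw [← (h1 m hm hrm).2, ← (h1 m' hm' hrm').2,
    eq_of_isMaximal_of_isIntegral (S := S) (D := (S ⊗[A] R') ⧸ r)
      (P := m.map (Ideal.Quotient.mk r)) (Q := m'.map (Ideal.Quotient.mk r))]

section Equiv

variable {A R' S : Type u} [CommRing A] [CommRing R'] [Algebra A R'] [CommRing S] [Algebra A S]

theorem mem_minimalPrimes_comap {X Y : Type u} [CommRing X] [CommRing Y] (e : X ≃+* Y) {P : Ideal Y}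
    (h : P ∈ minimalPrimes Y) : P.comap e.toRingHom ∈ minimalPrimes X := by
  have : P.comap e.toRingHom ∈ ((⊥ : Ideal Y).comap e.toRingHom).minimalPrimes := by
    rw [Ideal.comap_minimalPrimes_eq_of_surjective (f := e.toRingHom) e.surjective]
    exact ⟨P, h, rfl⟩
  rwa [← RingHom.ker_eq_comap_bot, (RingHom.injective_iff_ker_eq_bot e.toRingHom).mp e.injective] at this

theorem bijOn_comm
    (h : Set.BijOn (fun P : Ideal (S ⊗[A] R') => P.comap (algebraMap S (S ⊗[A] R')))
      (minimalPrimes (S ⊗[A] R')) (minimalPrimes S)) :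
    Set.BijOn (fun P : Ideal (R' ⊗[A] S) =>
        P.comap (Algebra.TensorProduct.includeRight.toRingHom : S →+* R' ⊗[A] S))
      (minimalPrimes (R' ⊗[A] S)) (minimalPrimes S) := by
  set e := (Algebra.TensorProduct.comm A S R').toRingEquiv
  have hc : ∀ P : Ideal (R' ⊗[A] S), P.comap (Algebra.TensorProduct.includeRight.toRingHom : S →+* R' ⊗[A] S) =
      (P.comap e.toRingHom).comap (algebraMap S (S ⊗[A] R')) := fun P => by
    ext s
    simp [e]
  have hinj : ∀ P P' : Ideal (R' ⊗[A] S), P.comap e.toRingHom = P'.comap e.toRingHom → P = P' := fun P P' h =>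
    Ideal.comap_injective_of_surjective e.toRingHom e.surjective h
  refine ⟨fun P hP => ?_, fun P hP P' hP' hh => hinj _ _ ?_, fun p hp => ?_⟩
  · show P.comap _ ∈ _
    rw [hc]; exact h.mapsTo (mem_minimalPrimes_comap e hP)
  · simp only [hc] at hh
    exact h.injOn (mem_minimalPrimes_comap e hP) (mem_minimalPrimes_comap e hP') hh
  · obtain ⟨Q, hQ, rfl⟩ := h.surjOn hp
    refine ⟨Q.comap e.symm.toRingHom, mem_minimalPrimes_comap e.symm hQ, ?_⟩
    show Ideal.comap _ _ = _
    rw [hc]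
    congr 1
    rw [Ideal.comap_comap, show e.symm.toRingHom.comp e.toRingHom = RingHom.id _ from RingHom.ext fun x => e.symm_apply_apply x,
      Ideal.comap_id]

theorem existsUnique_comm (p : Ideal (S ⊗[A] R') → Prop) (p' : Ideal (R' ⊗[A] S) → Prop)
    (hpp : ∀ P, p' P ↔ p (P.comap (Algebra.TensorProduct.comm A S R').toRingEquiv.toRingHom))
    (h : ∃! P, p P) : ∃! P, p' P := by
  obtain ⟨Q, hQ, hu⟩ := h
  set e := (Algebra.TensorProduct.comm A S R').toRingEquiv
  refine ⟨Q.comap e.symm.toRingHom, ?_, fun P hP => ?_⟩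
  · show p' _
    rw [hpp, Ideal.comap_comap]
    rwa [show e.symm.toRingHom.comp e.toRingHom = RingHom.id _ from RingHom.ext fun x => e.symm_apply_apply x,
      Ideal.comap_id]
  · refine Ideal.comap_injective_of_surjective e.toRingHom e.surjective ?_
    rw [hu _ ((hpp P).1 hP), Ideal.comap_comap]
    ext x
    simp

theorem isMaximal_comap_iff {X Y : Type u} [CommRing X] [CommRing Y] (e : X ≃+* Y) (P : Ideal Y) :
    (P.comap e.toRingHom).IsMaximal ↔ P.IsMaximal := by
  refine ⟨fun h => ?_, fun h => Ideal.comap_isMaximal_of_surjective e.toRingHom e.surjective⟩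
  have := Ideal.comap_isMaximal_of_surjective e.symm.toRingHom e.symm.surjective (K := P.comap e.toRingHom)
  rwa [Ideal.comap_comap, show e.toRingHom.comp e.symm.toRingHom = RingHom.id Y from RingHom.ext fun x => by simp,
    Ideal.comap_id] at this

theorem mem_minimalPrimes_comap_iff {X Y : Type u} [CommRing X] [CommRing Y] (e : X ≃+* Y) (P : Ideal Y) :
    P.comap e.toRingHom ∈ minimalPrimes X ↔ P ∈ minimalPrimes Y := by
  refine ⟨fun h => ?_, mem_minimalPrimes_comap e⟩
  have := mem_minimalPrimes_comap e.symm h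
  rwa [Ideal.comap_comap, show e.toRingHom.comp e.symm.toRingHom = RingHom.id Y from RingHom.ext fun x => by simp,
    Ideal.comap_id] at this

end Equiv

variable {A S : Type u} [CommRing A] [IsLocalRing A] [CommRing S] [IsLocalRing S] [Algebra A S]
  [IsLocalHom (algebraMap A S)]

theorem bijOn_normRed (hfin : (minimalPrimes A).Finite) [Module.Flat A S] (hS : EtaleStages A S) :
    Set.BijOn (fun P : Ideal ((CAlg2.normRed A) ⊗[A] S) =>
        P.comap (Algebra.TensorProduct.includeRight.toRingHom : S →+* (CAlg2.normRed A) ⊗[A] S))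
      (minimalPrimes ((CAlg2.normRed A) ⊗[A] S)) (minimalPrimes S) := by
  have := isReduced_red A
  exact bijOn_comm (bijOn_comap hS (absFlat_fractionRing _ (finite_minimalPrimes_red A hfin))
    (algebraMap_eq_zero_red A) (exists_unit_mul_eq_red A) (normVal A) (normVal_injective A) (exists_normVal_eq A))

theorem pairing_normRed (hfin : (minimalPrimes A).Finite) [Module.Flat A S] [HenselianLocalRing S]
    (hS : EtaleStages A S) :
    (∀ q ∈ minimalPrimes ((CAlg2.normRed A) ⊗[A] S),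
        ∃! m : Ideal ((CAlg2.normRed A) ⊗[A] S), m.IsMaximal ∧ q ≤ m) ∧
      (∀ m : Ideal ((CAlg2.normRed A) ⊗[A] S), m.IsMaximal →
        ∃! q : Ideal ((CAlg2.normRed A) ⊗[A] S), q ∈ minimalPrimes ((CAlg2.normRed A) ⊗[A] S) ∧ q ≤ m) := by
  have := isReduced_red A
  set e := (Algebra.TensorProduct.comm A S (CAlg2.normRed A)).toRingEquiv
  have hle : ∀ P P' : Ideal ((CAlg2.normRed A) ⊗[A] S),
      P ≤ P' ↔ P.comap e.toRingHom ≤ P'.comap e.toRingHom := fun P P' => by
    refine ⟨Ideal.comap_mono, fun h x hx => ?_⟩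
    obtain ⟨y, rfl⟩ := e.surjective x
    exact h hx
  refine ⟨fun q hq => ?_, fun m hm => ?_⟩
  · haveI := hq.1.1
    haveI : (q.comap e.toRingHom).IsPrime := Ideal.IsPrime.comap _
    exact existsUnique_comm _ _ (fun P => and_congr (isMaximal_comap_iff e P).symm (hle q P))
      (existsUnique_maximal_le (q.comap e.toRingHom))
  · haveI := hm.isPrime
    haveI : (m.comap e.toRingHom).IsPrime := Ideal.IsPrime.comap _
    exact existsUnique_comm _ _ (fun P => and_congr (mem_minimalPrimes_comap_iff e P).symm (hle P m))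
      (existsUnique_minimalPrime_le hS (absFlat_fractionRing _ (finite_minimalPrimes_red A hfin))
        (normVal A) (normVal_injective A) (exists_normVal_eq A) (m.comap e.toRingHom))

end GrothLib.MinPrimesHens1
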